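import Mathlib
import Cfsg.Prelude.Def_Local
import Cfsg.Prelude.Def_Transfer

/-!
# Project PGV (S3086, owner helper26), sub-project END2 (`p = 2` endgame): shared definitions

Paper proof: `notes/helper26_S3086_proof.md` section 4, in the simplified "regular model" form described in
`notes/helper26_END2_SHEET.lean.txt`.
-/

set_option autoImplicit false

namespace Cfsg.Agent.Lib.Helper26.PGV

open Cfsg

universe u

/-- `I` is (the additive group of) a two-sided ideal -/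
def IsTwoSided {R : Type*} [Ring R] (I : AddSubgroup R) : Prop := ∀ x ∈ I, ∀ y, y * x ∈ I ∧ x * y ∈ I

/-- the `F_2`-span of `r K` in `End W` (a subalgebra since `K` is a group) -/
def AA {H : Type*} {W : Type u} [Group H] [AddCommGroup W] [Module (ZMod 2) W]
    (r : Representation (ZMod 2) H W) (K : Subgroup H) : Subalgebra (ZMod 2) (Module.End (ZMod 2) W) :=
  Algebra.adjoin (ZMod 2) {f | ∃ x ∈ K, f = r x}

/-- The hypotheses of END2 on an irreducible `W` (abstract form). -/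
structure Cfg {H : Type*} {W : Type u} [Group H] [AddCommGroup W] [Module (ZMod 2) W]
    (r : Representation (ZMod 2) H W) (K B : Subgroup H) (a : H) : Prop where
  ha2 : a * a = 1
  hKqs : IsQuasisimple K
  hcomm : ∀ x ∈ K, ∀ y ∈ K, x * (a * y * a⁻¹) = (a * y * a⁻¹) * x
  hB2 : ∀ b ∈ B, b * b = 1
  hBa : ∀ b ∈ B, b * a = a * b
  hBK : ∀ b ∈ B, ∀ x ∈ K, b * x * b⁻¹ ∈ K
  hBfaith : ∀ b ∈ B, (∀ x ∈ K, b * x * b⁻¹ = x) → b = 1
  hirr : ∀ U : Submodule (ZMod 2) W,
      (∀ g, (g ∈ K ∨ g ∈ B ∨ g = a) → ∀ w ∈ U, r g w ∈ U) → U = ⊥ ∨ U = ⊤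
  hKnt : ∃ x ∈ K, ∃ w : W, r x w ≠ w
  hHD : ∀ x ∈ K, ∀ w : W, r (x * (a * x * a⁻¹)) (r a w - w) = r a w - w

/-- a base point of the regular model: `0 ≠ m ∈ [W, a]` fixed by `B` -/
structure Pt {H : Type*} {W : Type u} [Group H] [AddCommGroup W] [Module (ZMod 2) W]
    (r : Representation (ZMod 2) H W) (B : Subgroup H) (a : H) (m : W) : Prop where
  ne : m ≠ 0
  mem : ∃ w, m = r a w - w
  fixed : ∀ b ∈ B, r b m = m

end Cfsg.Agent.Lib.Helper26.PGV
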