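import Mathlib
import Cfsg.Agent.Lib.Helper26.PGV.End2Defs

/-!
# PGV-[RING-THM] (S3086, END2): reduction of the ring theorem to the `σ`-simple case

`ring_thm_of`: the `(σ,B)`-simple ring theorem from the `σ`-simple one (`simple_thm`) and the CRT count (`crt_card`),
both taken as hypotheses (their statements are exactly those of `notes/helper26_END2_SHEET.lean.txt`).
-/

set_option autoImplicit false

namespace Cfsg.Agent.Lib.Helper26.PGV

universe u

theorem mul_le_pow_aux (n t : ℕ) (hn : 2 ≤ n) (ht : 1 ≤ t) : t * n ≤ n ^ t := by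
  induction t, ht using Nat.le_induction with
  | base => simp
  | succ t ht ih =>
    have h1 : n ≤ n ^ t := by
      calc n = n ^ 1 := (pow_one n).symm
        _ ≤ n ^ t := Nat.pow_le_pow_right (by omega) ht
    calc (t + 1) * n = t * n + n := by ring
      _ ≤ n ^ t + n ^ t := by omega
      _ = n ^ t * 2 := by ring
      _ ≤ n ^ t * n := Nat.mul_le_mul_left _ hn
      _ = n ^ (t + 1) := (pow_succ n t).symm

section
variable {R : Type u} [Ring R]

/-- the predicate whose maximal element is the ideal `J` -/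
def PJ (σ : R →+ R) (I : Ideal R) : Prop := I.IsTwoSided ∧ (∀ x ∈ I, σ x ∈ I) ∧ I ≠ ⊤

theorem sq_inv {B : Subgroup (RingAut R)} (hB2 : ∀ b ∈ B, b * b = 1) {b : RingAut R} (hb : b ∈ B) :
    b⁻¹ = b := inv_eq_of_mul_eq_one_right (hB2 b hb)

theorem sq_comm {B : Subgroup (RingAut R)} (hB2 : ∀ b ∈ B, b * b = 1) {b c : RingAut R} (hb : b ∈ B)
    (hc : c ∈ B) : b * c = c * b := by
  have h := hB2 (b * c) (B.mul_mem hb hc)
  calc b * c = (b * c)⁻¹ := (inv_eq_of_mul_eq_one_right h).symm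
    _ = c⁻¹ * b⁻¹ := mul_inv_rev _ _
    _ = c * b := by rw [sq_inv hB2 hc, sq_inv hB2 hb]

theorem sq_apply {B : Subgroup (RingAut R)} (hB2 : ∀ b ∈ B, b * b = 1) {b : RingAut R} (hb : b ∈ B)
    (x : R) : b (b x) = x := by
  rw [← RingAut.mul_apply, hB2 b hb, RingAut.one_apply]

theorem comm_apply {B : Subgroup (RingAut R)} (hB2 : ∀ b ∈ B, b * b = 1) {b c : RingAut R} (hb : b ∈ B)
    (hc : c ∈ B) (x : R) : b (c x) = c (b x) := by
  rw [← RingAut.mul_apply, sq_comm hB2 hb hc, RingAut.mul_apply]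


theorem exists_maxJ [Finite R] [Nontrivial R] (σ : R →+ R) : ∃ J : Ideal R, Maximal (PJ σ) J := by
  have h0 : PJ σ (⊥ : Ideal R) := by
    refine ⟨inferInstance, ?_, bot_ne_top⟩
    intro x hx
    rw [Ideal.mem_bot] at hx
    rw [hx, map_zero]
    exact Ideal.zero_mem _
  obtain ⟨J, -, hJ⟩ := Finite.exists_le_maximal (p := PJ σ) h0
  exact ⟨J, hJ⟩

/-- the intersection of the `B`-translates of `J` is zero -/
theorem inter_bot (σ : R →+ R) (B : Subgroup (RingAut R))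
    (hBσ : ∀ b ∈ B, ∀ x, b (σ x) = σ (b x))
    (hsimple : ∀ I : AddSubgroup R, IsTwoSided I → (∀ x ∈ I, σ x ∈ I) →
        (∀ b ∈ B, ∀ x ∈ I, b x ∈ I) → I = ⊥ ∨ I = ⊤)
    (J : Ideal R) (hJ : PJ σ J) (x : R) (hx : ∀ b ∈ B, b x ∈ J) : x = 0 := by
  have := hJ.1
  let I0 : AddSubgroup R :=
    { carrier := {x | ∀ b ∈ B, b x ∈ J}
      add_mem' := fun {x y} hx hy b hb => by rw [map_add]; exact J.add_mem (hx b hb) (hy b hb)
      zero_mem' := fun b _ => by rw [map_zero]; exact J.zero_mem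
      neg_mem' := fun {x} hx b hb => by rw [map_neg]; exact J.neg_mem (hx b hb) }
  have h1 : IsTwoSided I0 := by
    intro x hx y
    refine ⟨fun b hb => ?_, fun b hb => ?_⟩
    · rw [map_mul]; exact J.mul_mem_left _ (hx b hb)
    · rw [map_mul]; exact J.mul_mem_right _ (hx b hb)
  have h2 : ∀ x ∈ I0, σ x ∈ I0 := fun x hx b hb => by rw [hBσ b hb]; exact hJ.2.1 _ (hx b hb)
  have h3 : ∀ c ∈ B, ∀ x ∈ I0, c x ∈ I0 := fun c hc x hx b hb => by
    rw [← RingAut.mul_apply]; exact hx _ (B.mul_mem hb hc)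
  rcases hsimple I0 h1 h2 h3 with h | h
  · have : x ∈ I0 := hx
    rw [h] at this
    exact this
  · exfalso
    have h1' : (1 : R) ∈ I0 := by rw [h]; trivial
    have := h1' 1 B.one_mem
    rw [RingAut.one_apply] at this
    exact hJ.2.2 ((Ideal.eq_top_iff_one J).mpr this)

section quot
variable (J : Ideal R) [J.IsTwoSided]

/-- the map induced by `σ` on `R ⧸ J` -/
noncomputable def sbar (σ : R →+ R) (hσJ : ∀ x ∈ J, σ x ∈ J) : (R ⧸ J) →+ (R ⧸ J) :=
  AddMonoidHom.mk' (fun q => Ideal.Quotient.mk J (σ (Quotient.out q))) (by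
    have key : ∀ x y : R, Ideal.Quotient.mk J x = Ideal.Quotient.mk J y →
        Ideal.Quotient.mk J (σ x) = Ideal.Quotient.mk J (σ y) := by
      intro x y h
      rw [Ideal.Quotient.eq] at h ⊢
      rw [← map_sub]
      exact hσJ _ h
    intro p q
    show Ideal.Quotient.mk J (σ (Quotient.out (p + q))) =
      Ideal.Quotient.mk J (σ (Quotient.out p)) + Ideal.Quotient.mk J (σ (Quotient.out q))
    rw [← map_add, ← map_add]
    apply key
    rw [Ideal.Quotient.mk_out, map_add, Ideal.Quotient.mk_out, Ideal.Quotient.mk_out])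

theorem sbar_mk (σ : R →+ R) (hσJ : ∀ x ∈ J, σ x ∈ J) (x : R) :
    sbar J σ hσJ (Ideal.Quotient.mk J x) = Ideal.Quotient.mk J (σ x) := by
  show Ideal.Quotient.mk J (σ (Quotient.out (Ideal.Quotient.mk J x))) = _
  rw [Ideal.Quotient.eq, ← map_sub]
  apply hσJ
  rw [← Ideal.Quotient.eq, Ideal.Quotient.mk_out]

/-- the ring endomorphism of `R ⧸ J` induced by an automorphism stabilizing `J` -/
noncomputable def qm (b : RingAut R) (hb : Ideal.comap (b : R →+* R) J = J) : (R ⧸ J) →+* (R ⧸ J) :=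
  Ideal.quotientMap J (b : R →+* R) (le_of_eq hb.symm)

theorem qm_mk (b : RingAut R) (hb : Ideal.comap (b : R →+* R) J = J) (x : R) :
    qm J b hb (Ideal.Quotient.mk J x) = Ideal.Quotient.mk J (b x) := by
  unfold qm
  rw [Ideal.quotientMap_mk]
  rfl

end quot


theorem comap_mul (J : Ideal R) (b c : RingAut R) :
    Ideal.comap ((b * c : RingAut R) : R →+* R) J = Ideal.comap (c : R →+* R) (Ideal.comap (b : R →+* R) J) := by
  ext x
  simp only [Ideal.mem_comap]
  rfl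

/-- the stabilizer of `J` in `B` -/
def stabJ (B : Subgroup (RingAut R)) (hB2 : ∀ b ∈ B, b * b = 1) (J : Ideal R) : Subgroup (RingAut R) where
  carrier := {b | b ∈ B ∧ Ideal.comap (b : R →+* R) J = J}
  mul_mem' := fun {b c} hb hc => ⟨B.mul_mem hb.1 hc.1, by rw [comap_mul, hb.2, hc.2]⟩
  one_mem' := ⟨B.one_mem, by ext x; simp only [Ideal.mem_comap]; rfl⟩
  inv_mem' := fun {b} hb => by rw [sq_inv hB2 hb.1]; exact hb

section psi
variable (J : Ideal R) [J.IsTwoSided] (B : Subgroup (RingAut R)) (hB2 : ∀ b ∈ B, b * b = 1)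

theorem qm_qm (hB2' : ∀ b ∈ B, b * b = 1) (b : RingAut R) (hbB : b ∈ B)
    (hb : Ideal.comap (b : R →+* R) J = J) :
    (qm J b hb).comp (qm J b hb) = RingHom.id _ := by
  apply Ideal.Quotient.ringHom_ext
  ext x
  simp only [RingHom.comp_apply, RingHom.id_apply]
  rw [qm_mk, qm_mk, sq_apply hB2' hbB]

/-- the action of the stabilizer on the quotient -/
noncomputable def psiFun (b : stabJ B hB2 J) : RingAut (R ⧸ J) :=
  RingEquiv.ofRingHom (qm J b.1 b.2.2) (qm J b.1 b.2.2) (qm_qm J B hB2 b.1 b.2.1 b.2.2)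
    (qm_qm J B hB2 b.1 b.2.1 b.2.2)

theorem psiFun_mk (b : stabJ B hB2 J) (x : R) :
    psiFun J B hB2 b (Ideal.Quotient.mk J x) = Ideal.Quotient.mk J (b.1 x) := by
  show qm J b.1 b.2.2 (Ideal.Quotient.mk J x) = _
  rw [qm_mk]

noncomputable def psi : stabJ B hB2 J →* RingAut (R ⧸ J) :=
  MonoidHom.mk' (psiFun J B hB2) (by
    intro b c
    apply RingEquiv.ext
    intro q
    obtain ⟨x, rfl⟩ := Ideal.Quotient.mk_surjective q
    rw [RingAut.mul_apply, psiFun_mk, psiFun_mk, psiFun_mk]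
    rfl)

theorem psi_mk (b : stabJ B hB2 J) (x : R) :
    psi J B hB2 b (Ideal.Quotient.mk J x) = Ideal.Quotient.mk J (b.1 x) := psiFun_mk J B hB2 b x

end psi


/-- the quotient `R ⧸ J` satisfies the hypotheses of the `σ`-simple theorem -/
theorem quot_simple (σ : R →+ R) (J : Ideal R) [J.IsTwoSided] (hJmax : Maximal (PJ σ) J)
    (I' : AddSubgroup (R ⧸ J)) (h1 : IsTwoSided I')
    (h2 : ∀ x ∈ I', sbar J σ hJmax.prop.2.1 x ∈ I') : I' = ⊥ ∨ I' = ⊤ := by
  let I : Ideal R :=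
    { carrier := {x | Ideal.Quotient.mk J x ∈ I'}
      add_mem' := fun {x y} hx hy => by
        show Ideal.Quotient.mk J (x + y) ∈ I'
        rw [map_add]; exact I'.add_mem hx hy
      zero_mem' := by
        show Ideal.Quotient.mk J 0 ∈ I'
        rw [map_zero]; exact I'.zero_mem
      smul_mem' := fun c x hx => by
        show Ideal.Quotient.mk J (c * x) ∈ I'
        rw [map_mul]; exact (h1 _ hx _).1 }
  have hJI : J ≤ I := by
    intro x hx
    show Ideal.Quotient.mk J x ∈ I'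
    rw [Ideal.Quotient.eq_zero_iff_mem.mpr hx]
    exact I'.zero_mem
  by_cases hI : I = ⊤
  · right
    rw [eq_top_iff]
    intro q _
    obtain ⟨x, rfl⟩ := Ideal.Quotient.mk_surjective q
    have : x ∈ I := by rw [hI]; trivial
    exact this
  · left
    have hPI : PJ σ I := by
      refine ⟨⟨fun {x} y hx => ?_⟩, fun x hx => ?_, hI⟩
      · show Ideal.Quotient.mk J (x * y) ∈ I'
        rw [map_mul]; exact (h1 _ hx _).2
      · show Ideal.Quotient.mk J (σ x) ∈ I'
        rw [← sbar_mk J σ hJmax.prop.2.1]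
        exact h2 _ hx
    have hIJ : I ≤ J := hJmax.le_of_ge hPI hJI
    rw [eq_bot_iff]
    intro q hq
    obtain ⟨x, rfl⟩ := Ideal.Quotient.mk_surjective q
    have hx : x ∈ J := hIJ hq
    rw [AddSubgroup.mem_bot]
    exact Ideal.Quotient.eq_zero_iff_mem.mpr hx


section translates
variable (σ : R →+ R) (B : Subgroup (RingAut R)) (hB2 : ∀ b ∈ B, b * b = 1)
  (hBσ : ∀ b ∈ B, ∀ x, b (σ x) = σ (b x))

theorem comap_comap_self (hB2' : ∀ b ∈ B, b * b = 1) {b : RingAut R} (hb : b ∈ B) (I : Ideal R) :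
    Ideal.comap (b : R →+* R) (Ideal.comap (b : R →+* R) I) = I := by
  ext x
  simp only [Ideal.mem_comap]
  show b (b x) ∈ I ↔ x ∈ I
  rw [sq_apply hB2' hb]

theorem PJ_comap (hBσ' : ∀ b ∈ B, ∀ x, b (σ x) = σ (b x)) {b : RingAut R} (hb : b ∈ B) {I : Ideal R}
    (hI : PJ σ I) : PJ σ (Ideal.comap (b : R →+* R) I) := by
  have := hI.1
  refine ⟨inferInstance, fun x hx => ?_, fun h => ?_⟩
  · rw [Ideal.mem_comap] at hx ⊢
    show b (σ x) ∈ I
    rw [hBσ' b hb]
    exact hI.2.1 _ hx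
  · have h1 : (1 : R) ∈ Ideal.comap (b : R →+* R) I := by rw [h]; trivial
    rw [Ideal.mem_comap, map_one] at h1
    exact hI.2.2 ((Ideal.eq_top_iff_one I).mpr h1)

theorem maximal_comap (hB2' : ∀ b ∈ B, b * b = 1) (hBσ' : ∀ b ∈ B, ∀ x, b (σ x) = σ (b x))
    {b : RingAut R} (hb : b ∈ B) {J : Ideal R}
    (hJ : Maximal (PJ σ) J) : Maximal (PJ σ) (Ideal.comap (b : R →+* R) J) := by
  refine ⟨PJ_comap σ B hBσ' hb hJ.prop, fun I hI hle => ?_⟩
  have h1 : J ≤ Ideal.comap (b : R →+* R) I := by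
    have := Ideal.comap_mono (f := (b : R →+* R)) hle
    rwa [comap_comap_self B hB2' hb] at this
  have h2 := hJ.le_of_ge (PJ_comap σ B hBσ' hb hI) h1
  have := Ideal.comap_mono (f := (b : R →+* R)) h2
  rwa [comap_comap_self B hB2' hb] at this

theorem comax_of_ne {I I' : Ideal R} (hI : Maximal (PJ σ) I) (hI' : Maximal (PJ σ) I') (hne : I ≠ I') :
    ∃ i ∈ I, ∃ j ∈ I', i + j = 1 := by
  have h1 := hI.prop.1
  have h1' := hI'.prop.1
  by_cases htop : I ⊔ I' = ⊤
  · have : (1 : R) ∈ I ⊔ I' := by rw [htop]; trivial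
    obtain ⟨i, hi, j, hj, hij⟩ := Submodule.mem_sup.mp this
    exact ⟨i, hi, j, hj, hij⟩
  · exfalso
    have hP : PJ σ (I ⊔ I') := by
      refine ⟨⟨fun {x} y hx => ?_⟩, fun x hx => ?_, htop⟩
      · obtain ⟨i, hi, j, hj, rfl⟩ := Submodule.mem_sup.mp hx
        rw [add_mul]
        exact Submodule.add_mem_sup (I.mul_mem_right _ hi) (I'.mul_mem_right _ hj)
      · obtain ⟨i, hi, j, hj, rfl⟩ := Submodule.mem_sup.mp hx
        rw [map_add]
        exact Submodule.add_mem_sup (hI.prop.2.1 _ hi) (hI'.prop.2.1 _ hj)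
    have e1 : I ⊔ I' ≤ I := hI.le_of_ge hP le_sup_left
    have e2 : I ⊔ I' ≤ I' := hI'.le_of_ge hP le_sup_right
    have e3 : I' ≤ I := le_trans le_sup_right e1
    have e4 : I ≤ I' := le_trans le_sup_left e2
    exact hne (le_antisymm e4 e3)

end translates


/-- **PGV-[RING-THM]** in `_of` form: the hypotheses `hS`, `hC` are the statements `simple_thm`, `crt_card` of the sheet. -/
theorem ring_thm_of [Finite R]
    (hS : ∀ (Q : Type u) [Ring Q] [Finite Q] (_ : (2 : Q) = 0)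
      (σ : Q →+ Q) (_ : ∀ x y, σ (x * y) = σ y * σ x) (_ : ∀ x, σ (σ x) = x)
      (_ : ∀ x, x + σ x ∈ Subring.center Q)
      (K : Subgroup Qˣ) (_ : AddSubgroup.closure {x : Q | ∃ u ∈ K, (u : Q) = x} = ⊤)
      (_ : ∀ u ∈ K, σ (u : Q) = ((u⁻¹ : Qˣ) : Q))
      (_ : ⁅K, K⁆ = K) (_ : K ≠ ⊥)
      (_ : ∀ I : AddSubgroup Q, IsTwoSided I → (∀ x ∈ I, σ x ∈ I) → I = ⊥ ∨ I = ⊤)
      (B : Subgroup (RingAut Q)) (_ : ∀ b ∈ B, b * b = 1),
      2 * Nat.card B * Nat.card {x : Q // σ x = x ∧ ∀ b ∈ B, b x = x} < Nat.card Q)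
    (hC : ∀ (s : Finset (AddSubgroup R)), (∀ I ∈ s, IsTwoSided I) →
      (∀ I ∈ s, ∀ J ∈ s, I ≠ J → ∃ i ∈ I, ∃ j ∈ J, i + j = 1) →
      ∀ n : ℕ, (∀ I ∈ s, n ≤ I.index) → n ^ s.card ≤ Nat.card R)
    (h2 : (2 : R) = 0)
    (σ : R →+ R) (hσmul : ∀ x y, σ (x * y) = σ y * σ x) (hσσ : ∀ x, σ (σ x) = x)
    (hT : ∀ x, x + σ x ∈ Subring.center R)
    (K : Subgroup Rˣ) (hKspan : AddSubgroup.closure {x : R | ∃ u ∈ K, (u : R) = x} = ⊤)
    (hKσ : ∀ u ∈ K, σ (u : R) = ((u⁻¹ : Rˣ) : R))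
    (hKperf : ⁅K, K⁆ = K) (hKne : K ≠ ⊥)
    (B : Subgroup (RingAut R)) (hB2 : ∀ b ∈ B, b * b = 1)
    (hBσ : ∀ b ∈ B, ∀ x, b (σ x) = σ (b x))
    (hBK : ∀ b ∈ B, ∀ u ∈ K, ∃ u' ∈ K, (u' : R) = b (u : R))
    (hsimple : ∀ I : AddSubgroup R, IsTwoSided I → (∀ x ∈ I, σ x ∈ I) →
        (∀ b ∈ B, ∀ x ∈ I, b x ∈ I) → I = ⊥ ∨ I = ⊤) :
    2 * Nat.card B * Nat.card {x : R // σ x = x ∧ ∀ b ∈ B, b x = x} < Nat.card R := by
  classical
  obtain ⟨⟨u0, hu0K⟩, hu0⟩ := (Subgroup.ne_bot_iff_exists_ne_one).mp hKne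
  have hu0' : u0 ≠ 1 := fun h => hu0 (Subtype.ext h)
  haveI : Nontrivial R := ⟨⟨(u0 : R), 1, fun h => hu0' (Units.ext h)⟩⟩
  obtain ⟨J, hJmax⟩ := exists_maxJ σ
  have hJP := hJmax.prop
  haveI : J.IsTwoSided := hJP.1
  haveI : Finite (R ⧸ J) := Finite.of_surjective _ (Ideal.Quotient.mk_surjective (I := J))
  haveI : Finite (RingAut R) := Finite.of_injective (fun b : RingAut R => (b : R → R)) DFunLike.coe_injective
  haveI : Finite (RingAut (R ⧸ J)) :=
    Finite.of_injective (fun b : RingAut (R ⧸ J) => (b : R ⧸ J → R ⧸ J)) DFunLike.coe_injective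
  have hσJ := hJP.2.1
  have hinter := inter_bot σ B hBσ hsimple J hJP
  -- the data on the quotient
  have q2 : (2 : R ⧸ J) = 0 := by
    have : Ideal.Quotient.mk J (2 : R) = 0 := by rw [h2, map_zero]
    rwa [map_ofNat] at this
  have qmul : ∀ p q : R ⧸ J, sbar J σ hσJ (p * q) = sbar J σ hσJ q * sbar J σ hσJ p := by
    intro p q
    obtain ⟨x, rfl⟩ := Ideal.Quotient.mk_surjective p
    obtain ⟨y, rfl⟩ := Ideal.Quotient.mk_surjective q
    rw [← map_mul, sbar_mk, sbar_mk, sbar_mk, hσmul, map_mul]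
  have qinv : ∀ p : R ⧸ J, sbar J σ hσJ (sbar J σ hσJ p) = p := by
    intro p
    obtain ⟨x, rfl⟩ := Ideal.Quotient.mk_surjective p
    rw [sbar_mk, sbar_mk, hσσ]
  have qT : ∀ p : R ⧸ J, p + sbar J σ hσJ p ∈ Subring.center (R ⧸ J) := by
    intro p
    obtain ⟨x, rfl⟩ := Ideal.Quotient.mk_surjective p
    rw [sbar_mk, ← map_add, Subring.mem_center_iff]
    intro g
    obtain ⟨y, rfl⟩ := Ideal.Quotient.mk_surjective g
    rw [← map_mul, ← map_mul, Subring.mem_center_iff.mp (hT x) y]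
  let K' : Subgroup (R ⧸ J)ˣ := K.map (Units.map (Ideal.Quotient.mk J : R →* R ⧸ J))
  have qspan : AddSubgroup.closure {x : R ⧸ J | ∃ u ∈ K', (u : R ⧸ J) = x} = ⊤ := by
    have hall : ∀ x : R, x ∈ AddSubgroup.closure {x : R | ∃ u ∈ K, (u : R) = x} →
        Ideal.Quotient.mk J x ∈ AddSubgroup.closure {x : R ⧸ J | ∃ u ∈ K', (u : R ⧸ J) = x} := by
      intro x hx
      induction hx using AddSubgroup.closure_induction with
      | mem x hx =>
        obtain ⟨u, hu, rfl⟩ := hx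
        apply AddSubgroup.subset_closure
        exact ⟨Units.map (Ideal.Quotient.mk J : R →* R ⧸ J) u, Subgroup.mem_map_of_mem _ hu, rfl⟩
      | zero => rw [map_zero]; exact AddSubgroup.zero_mem _
      | add x y _ _ hx hy => rw [map_add]; exact AddSubgroup.add_mem _ hx hy
      | neg x _ hx => rw [map_neg]; exact AddSubgroup.neg_mem _ hx
    rw [eq_top_iff]
    intro q _
    obtain ⟨x, rfl⟩ := Ideal.Quotient.mk_surjective q
    exact hall x (by rw [hKspan]; trivial)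
  have qKσ : ∀ u ∈ K', sbar J σ hσJ (u : R ⧸ J) = ((u⁻¹ : (R ⧸ J)ˣ) : R ⧸ J) := by
    intro u hu
    obtain ⟨v, hv, rfl⟩ := hu
    rw [← map_inv]
    show sbar J σ hσJ (Ideal.Quotient.mk J (v : R)) = Ideal.Quotient.mk J ((v⁻¹ : Rˣ) : R)
    rw [sbar_mk, hKσ v hv]
  have qperf : ⁅K', K'⁆ = K' := by
    show ⁅K.map _, K.map _⁆ = K.map _
    rw [← Subgroup.map_commutator, hKperf]
  have qne : K' ≠ ⊥ := by
    intro hbot
    apply hKne
    rw [eq_bot_iff]
    intro u hu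
    rw [Subgroup.mem_bot]
    have key : ∀ v ∈ K, (v : R) - 1 ∈ J := by
      intro v hv
      have h1 : Units.map (Ideal.Quotient.mk J : R →* R ⧸ J) v ∈ K' := Subgroup.mem_map_of_mem _ hv
      rw [hbot, Subgroup.mem_bot] at h1
      have h2 : Ideal.Quotient.mk J (v : R) = 1 := congrArg Units.val h1
      rwa [← map_one (Ideal.Quotient.mk J), Ideal.Quotient.eq] at h2
    have h0 : (u : R) - 1 = 0 := by
      apply hinter
      intro b hb
      obtain ⟨u', hu', hu'e⟩ := hBK b hb u hu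
      rw [map_sub, map_one, ← hu'e]
      exact key u' hu'
    exact Units.ext (sub_eq_zero.mp h0)
  have qsimple := quot_simple σ J hJmax
  -- the stabilizer and its action
  let B1 := stabJ B hB2 J
  let ψ := psi J B hB2
  have hψinj : Function.Injective ψ := by
    rw [injective_iff_map_eq_one]
    intro b hb
    apply Subtype.ext
    apply RingEquiv.ext
    intro x
    show b.1 x = x
    have h0 : b.1 x - x = 0 := by
      apply hinter
      intro c hc
      rw [map_sub, comm_apply hB2 hc b.2.1]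
      have h1 : ψ b (Ideal.Quotient.mk J (c x)) = Ideal.Quotient.mk J (c x) := by
        rw [hb]; rfl
      rw [psi_mk, Ideal.Quotient.eq] at h1
      exact h1
    exact sub_eq_zero.mp h0
  let B' : Subgroup (RingAut (R ⧸ J)) := ψ.range
  have hB'2 : ∀ b ∈ B', b * b = 1 := by
    rintro _ ⟨b, rfl⟩
    rw [← map_mul]
    have : b * b = 1 := Subtype.ext (hB2 b.1 b.2.1)
    rw [this, map_one]
  have hcardB' : Nat.card B' = Nat.card B1 :=
    (Nat.card_congr (MonoidHom.ofInjective hψinj).toEquiv).symm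
  have main := hS (R ⧸ J) q2 (sbar J σ hσJ) qmul qinv qT K' qspan qKσ qperf qne qsimple B' hB'2
  -- injection of fixed points
  have hfix : Nat.card {x : R // σ x = x ∧ ∀ b ∈ B, b x = x} ≤
      Nat.card {x : R ⧸ J // sbar J σ hσJ x = x ∧ ∀ b ∈ B', b x = x} := by
    apply Nat.card_le_card_of_injective
      (fun x : {x : R // σ x = x ∧ ∀ b ∈ B, b x = x} =>
        (⟨Ideal.Quotient.mk J x.1, by
          refine ⟨by rw [sbar_mk, x.2.1], ?_⟩
          rintro _ ⟨b, rfl⟩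
          rw [psi_mk, x.2.2 b.1 b.2.1]⟩ : {x : R ⧸ J // sbar J σ hσJ x = x ∧ ∀ b ∈ B', b x = x}))
    intro x y hxy
    have h1 : Ideal.Quotient.mk J x.1 = Ideal.Quotient.mk J y.1 := congrArg Subtype.val hxy
    rw [Ideal.Quotient.eq] at h1
    have h0 : x.1 - y.1 = 0 := by
      apply hinter
      intro b hb
      rw [map_sub, x.2.2 b hb, y.2.2 b hb]
      exact h1
    exact Subtype.ext (sub_eq_zero.mp h0)
  -- the translates
  haveI : Fintype B := Fintype.ofFinite B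
  let f : B → AddSubgroup R := fun b => (Ideal.comap ((b : RingAut R) : R →+* R) J).toAddSubgroup
  let s : Finset (AddSubgroup R) := Finset.univ.image f
  have hsI : ∀ I ∈ s, ∃ b ∈ B, Maximal (PJ σ) (Ideal.comap (b : R →+* R) J) ∧
      I = (Ideal.comap (b : R →+* R) J).toAddSubgroup := by
    intro I hI
    obtain ⟨b, -, rfl⟩ := Finset.mem_image.mp hI
    exact ⟨b.1, b.2, maximal_comap σ B hB2 hBσ b.2 hJmax, rfl⟩
  have hs1 : ∀ I ∈ s, IsTwoSided I := by
    intro I hI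
    obtain ⟨b, hb, hmax, rfl⟩ := hsI I hI
    have := hmax.prop.1
    intro x hx y
    exact ⟨Ideal.mul_mem_left _ y hx, Ideal.mul_mem_right y _ hx⟩
  have hs2 : ∀ I ∈ s, ∀ I' ∈ s, I ≠ I' → ∃ i ∈ I, ∃ j ∈ I', i + j = 1 := by
    intro I hI I' hI' hne
    obtain ⟨b, hb, hmax, rfl⟩ := hsI I hI
    obtain ⟨c, hc, hmax', rfl⟩ := hsI I' hI'
    have hne' : Ideal.comap (b : R →+* R) J ≠ Ideal.comap (c : R →+* R) J := fun h => hne (by rw [h])
    exact comax_of_ne σ hmax hmax' hne'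
  have hs3 : ∀ I ∈ s, Nat.card (R ⧸ J) ≤ I.index := by
    intro I hI
    obtain ⟨b, hb, hmax, rfl⟩ := hsI I hI
    have e1 : (Ideal.comap (b : R →+* R) J).toAddSubgroup =
        J.toAddSubgroup.comap ((b : R ≃+* R) : R →+* R).toAddMonoidHom := rfl
    rw [e1, AddSubgroup.index_comap_of_surjective _ (b : R ≃+* R).surjective]
    exact le_of_eq rfl
  have hcrt := hC s hs1 hs2 (Nat.card (R ⧸ J)) hs3
  -- |B| ≤ |B1| * t
  have hBle : Nat.card B ≤ Nat.card B1 * s.card := by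
    rw [Nat.card_eq_fintype_card, ← Finset.card_univ]
    apply Finset.card_le_mul_card_image
    intro I hI
    obtain ⟨b0, -, rfl⟩ := Finset.mem_image.mp hI
    haveI : Fintype B1 := Fintype.ofFinite B1
    rw [Nat.card_eq_fintype_card, ← Finset.card_univ]
    have hmem : ∀ b : B, f b = f b0 → (b : RingAut R) * b0 ∈ B1 := by
      intro b hb
      refine ⟨B.mul_mem b.2 b0.2, ?_⟩
      have hb' : Ideal.comap ((b : RingAut R) : R →+* R) J = Ideal.comap ((b0 : RingAut R) : R →+* R) J := by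
        apply Submodule.toAddSubgroup_injective
        exact hb
      rw [comap_mul, hb', comap_comap_self B hB2 b0.2]
    apply Finset.card_le_card_of_injOn
      (fun b => if h : f b = f b0 then (⟨(b : RingAut R) * b0, hmem b h⟩ : B1) else 1)
    · intro b _
      exact Finset.mem_univ _
    · intro b hb c hc hbc
      have hb' : f b = f b0 := (Finset.mem_filter.mp hb).2
      have hc' : f c = f b0 := (Finset.mem_filter.mp hc).2
      simp only [dif_pos hb', dif_pos hc'] at hbc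
      have := congrArg Subtype.val hbc
      exact Subtype.ext (mul_right_cancel this)
  -- arithmetic
  have hn2 : 2 ≤ Nat.card (R ⧸ J) := by
    by_contra hlt
    have : Nat.card (R ⧸ J) ≤ 1 := by omega
    have hpos : 0 < Nat.card B' := Nat.card_pos
    have : 2 * Nat.card B' * Nat.card {x : R ⧸ J // sbar J σ hσJ x = x ∧ ∀ b ∈ B', b x = x} = 0 := by
      have hlt2 := main
      omega
    have h0 : (0 : R ⧸ J) = 0 := rfl
    have hne0 : 0 < Nat.card {x : R ⧸ J // sbar J σ hσJ x = x ∧ ∀ b ∈ B', b x = x} := by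
      haveI : Nonempty {x : R ⧸ J // sbar J σ hσJ x = x ∧ ∀ b ∈ B', b x = x} :=
        ⟨⟨0, map_zero _, fun b _ => map_zero _⟩⟩
      exact Nat.card_pos
    have := Nat.mul_pos (Nat.mul_pos (by norm_num : 0 < 2) hpos) hne0
    omega
  have ht1 : 1 ≤ s.card := by
    apply Finset.card_pos.mpr
    exact ⟨f 1, Finset.mem_image_of_mem f (Finset.mem_univ _)⟩
  have hpow := mul_le_pow_aux (Nat.card (R ⧸ J)) s.card hn2 ht1
  rw [hcardB'] at main
  set F0 := Nat.card {x : R // σ x = x ∧ ∀ b ∈ B, b x = x}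
  set f1 := Nat.card {x : R ⧸ J // sbar J σ hσJ x = x ∧ ∀ b ∈ B', b x = x}
  set c1 := Nat.card B1
  set t := s.card
  set n := Nat.card (R ⧸ J)
  calc 2 * Nat.card B * F0 ≤ 2 * (c1 * t) * f1 := by
        apply Nat.mul_le_mul (Nat.mul_le_mul_left 2 hBle) hfix
    _ = t * (2 * c1 * f1) := by ring
    _ < t * n := Nat.mul_lt_mul_of_pos_left main (by omega)
    _ ≤ n ^ t := hpow
    _ ≤ Nat.card R := hcrt

end

end Cfsg.Agent.Lib.Helper26.PGV
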