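import Mathlib
import Cfsg.Agent.Lib.Helper26.PGV.RingThm
import Cfsg.Agent.Lib.Helper14.PgvCrt
import Cfsg.Agent.Lib.Helper14.PgvSimpleThm

/-!
# PGV (S3086), END2: the exact chain.  `ring_thm_of_struct`: RING-THM from the statement of SIMPLE-STRUCT alone
(uses helper14 `crt_card`, helper14 `simple_thm_of`, helper20 `m2_count`).
-/

set_option autoImplicit false

namespace Cfsg.Agent.Lib.Helper26.PGV

universe u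

theorem ring_thm_of_struct {R : Type u} [Ring R] [Finite R]
    (hSS : ∀ (Q : Type u) [Ring Q] [Finite Q] (_ : (2 : Q) = 0)
      (σ : Q →+ Q) (_ : ∀ x y, σ (x * y) = σ y * σ x) (_ : ∀ x, σ (σ x) = x)
      (_ : ∀ x, x + σ x ∈ Subring.center Q)
      (K : Subgroup Qˣ) (_ : AddSubgroup.closure {x : Q | ∃ u ∈ K, (u : Q) = x} = ⊤)
      (_ : ∀ u ∈ K, σ (u : Q) = ((u⁻¹ : Qˣ) : Q))
      (_ : ⁅K, K⁆ = K) (_ : K ≠ ⊥)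
      (_ : ∀ I : AddSubgroup Q, IsTwoSided I → (∀ x ∈ I, σ x ∈ I) → I = ⊥ ∨ I = ⊤),
      ∃ (F : Type u) (_ : Field F) (_ : Finite F) (_ : CharP F 2) (φ : Q ≃+* Matrix (Fin 2) (Fin 2) F),
        2 < Nat.card F ∧ ∀ x, σ x = x ↔ (φ x).trace = 0)
    (h2 : (2 : R) = 0)
    (σ : R →+ R) (hσmul : ∀ x y, σ (x * y) = σ y * σ x) (hσσ : ∀ x, σ (σ x) = x)
    (hT : ∀ x, x + σ x ∈ Subring.center R)
    (K : Subgroup Rˣ) (hKspan : AddSubgroup.closure {x : R | ∃ u ∈ K, (u : R) = x} = ⊤)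
    (hKσ : ∀ u ∈ K, σ (u : R) = ((u⁻¹ : Rˣ) : R))
    (hKperf : ⁅K, K⁆ = K) (hKne : K ≠ ⊥)
    (B : Subgroup (RingAut R)) (hB2 : ∀ b ∈ B, b * b = 1)
    (hBσ : ∀ b ∈ B, ∀ x, b (σ x) = σ (b x))
    (hBK : ∀ b ∈ B, ∀ u ∈ K, ∃ u' ∈ K, (u' : R) = b (u : R))
    (hsimple : ∀ I : AddSubgroup R, IsTwoSided I → (∀ x ∈ I, σ x ∈ I) →
        (∀ b ∈ B, ∀ x ∈ I, b x ∈ I) → I = ⊥ ∨ I = ⊤) :
    2 * Nat.card B * Nat.card {x : R // σ x = x ∧ ∀ b ∈ B, b x = x} < Nat.card R :=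
  ring_thm_of
    (fun Q _ _ q2 σ' h1 h2' h3 K' h4 h5 h6 h7 h8 B' h9 =>
      Cfsg.Agent.Lib.Helper14.PgvSimpleThm.simple_thm_of σ' (hSS Q q2 σ' h1 h2' h3 K' h4 h5 h6 h7 h8) B' h9)
    (fun s => Cfsg.Agent.Lib.Helper14.PgvCrt.crt_card s)
    h2 σ hσmul hσσ hT K hKspan hKσ hKperf hKne B hB2 hBσ hBK hsimple

end Cfsg.Agent.Lib.Helper26.PGV
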