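import Mathlib
import Cfsg.Agent.Lib.Helper41.PGV.Defs2
import Cfsg.Agent.Lib.Helper26.PGV.End2Defs

/-!
# PGV (S3086): the adapter END2 -> RED.  `end2_rep_of` is helper41's interface statement `end2_rep` (RED_SHEET2) deduced from
the abstract END2 theorem `end2_abs` (taken as the hypothesis `habs`, its statement for this `(σ, K1, B, a)`).
-/

set_option autoImplicit false

namespace Cfsg.Agent.Lib.Helper26.PGV

open Cfsg Cfsg.Agent.Lib.Helper41.PGV

universe v

/-- the stabilizer of a submodule of a finite module -/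
def stabU {G0 W : Type*} [Group G0] [AddCommGroup W] [Module (ZMod 2) W] [Finite W]
    (σ : Representation (ZMod 2) G0 W) (U : Submodule (ZMod 2) W) : Subgroup G0 where
  carrier := {g | ∀ u ∈ U, σ g u ∈ U}
  mul_mem' := fun {g h} hg hh u hu => by
    rw [map_mul]
    exact hg _ (hh u hu)
  one_mem' := fun u hu => by
    rw [map_one]
    exact hu
  inv_mem' := fun {g} hg u hu => by
    -- `σ g` restricted to `U` is injective, hence surjective
    let f : U → U := fun u => ⟨σ g u.1, hg u.1 u.2⟩
    have hinj : Function.Injective f := by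
      intro x y hxy
      have h1 : σ g x.1 = σ g y.1 := congrArg Subtype.val hxy
      have h2 : σ g⁻¹ (σ g x.1) = σ g⁻¹ (σ g y.1) := by rw [h1]
      have h3 : ∀ w : W, σ g⁻¹ (σ g w) = w := by
        intro w
        rw [← Module.End.mul_apply, ← map_mul, inv_mul_cancel, map_one]
        rfl
      rw [h3, h3] at h2
      exact Subtype.ext h2
    have hsurj : Function.Surjective f := Finite.surjective_of_injective hinj
    obtain ⟨u', hu'⟩ := hsurj ⟨u, hu⟩
    have h1 : σ g u'.1 = u := congrArg Subtype.val hu'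
    rw [← h1, ← Module.End.mul_apply, ← map_mul, inv_mul_cancel, map_one]
    exact u'.2

theorem end2_rep_of {G0 W : Type v} [Group G0] [Finite G0] [AddCommGroup W] [Module (ZMod 2) W] [Finite W]
    (σ : Representation (ZMod 2) G0 W) (K1 B : Subgroup G0) (a : G0)
    (habs : Cfg σ K1 B a →
      2 * Nat.card B * Nat.card {w : W // σ a w = w ∧ ∀ b ∈ B, σ b w = w} < Nat.card W)
    (hirr : Irred σ) (hgen : K1 ⊔ cj K1 a ⊔ B ⊔ Subgroup.zpowers a = ⊤) (ha : a * a = 1)
    (hqs : IsQuasisimple K1) (hnt : ¬ ∀ x ∈ K1, σ x = 1)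
    (hcomm : ∀ x ∈ K1, ∀ y ∈ K1, x * (a * y * a⁻¹) = (a * y * a⁻¹) * x)
    (hB : IsElementaryAbelian 2 B) (hBN : ∀ b ∈ B, ∀ x ∈ K1, b * x * b⁻¹ ∈ K1) (hBa : ∀ b ∈ B, b * a = a * b)
    (hBf : ∀ b ∈ B, (∀ x ∈ K1, σ (b * x * b⁻¹) = σ x) → b = 1)
    (hHD : ∀ x ∈ K1, (σ (x * (a * x * a⁻¹)) - 1) * (σ a - 1) = 0) :
    2 * Nat.card B * Nat.card (fix σ ((B : Set G0) ∪ {a})) < Nat.card W := by
  have hcfg : Cfg σ K1 B a := by
    refine ⟨ha, hqs, hcomm, ?_, hBa, hBN, ?_, ?_, ?_, ?_⟩
    · intro b hb
      have := hB.2 b hb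
      rwa [pow_two] at this
    · intro b hb h
      apply hBf b hb
      intro x hx
      rw [h x hx]
    · intro U hU
      apply hirr.2
      have hle : (⊤ : Subgroup G0) ≤ stabU σ U := by
        rw [← hgen]
        refine sup_le (sup_le (sup_le ?_ ?_) ?_) ?_
        · intro x hx
          exact hU x (Or.inl hx)
        · intro y hy
          obtain ⟨x, hx, rfl⟩ := mem_cj.mp hy
          have h1 : a ∈ stabU σ U := hU a (Or.inr (Or.inr rfl))
          have h2 : x ∈ stabU σ U := hU x (Or.inl hx)
          exact (stabU σ U).mul_mem ((stabU σ U).mul_mem h1 h2) ((stabU σ U).inv_mem h1)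
        · intro b hb
          exact hU b (Or.inr (Or.inl hb))
        · rw [Subgroup.zpowers_le]
          exact hU a (Or.inr (Or.inr rfl))
      intro g u hu
      exact hle (Subgroup.mem_top g) u hu
    · by_contra hcon
      apply hnt
      intro x hx
      apply LinearMap.ext
      intro w
      by_contra hne
      exact hcon ⟨x, hx, w, hne⟩
    · intro x hx w
      have h1 := congrArg (fun f : Module.End (ZMod 2) W => f w) (hHD x hx)
      simp only [Module.End.mul_apply, LinearMap.sub_apply, Module.End.one_apply, LinearMap.zero_apply,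
        map_sub] at h1
      have h2 : σ (x * (a * x * a⁻¹)) (σ a w - w) - (σ a w - w) = 0 := by
        rw [map_sub]
        rw [← h1]
        abel
      exact sub_eq_zero.mp h2
  have hmain := habs hcfg
  have hcard : Nat.card (fix σ ((B : Set G0) ∪ {a})) =
      Nat.card {w : W // σ a w = w ∧ ∀ b ∈ B, σ b w = w} := by
    apply Nat.card_congr
    refine Equiv.subtypeEquivRight ?_
    intro w
    rw [mem_fix]
    constructor
    · intro h
      exact ⟨h a (Or.inr rfl), fun b hb => h b (Or.inl hb)⟩
    · rintro ⟨h1, h2⟩ x hx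
      rcases hx with hx | hx
      · exact h2 x hx
      · rw [Set.mem_singleton_iff] at hx
        rw [hx]
        exact h1
  rw [hcard]
  exact hmain

end Cfsg.Agent.Lib.Helper26.PGV
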